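import Groth.Agent.SemiAbLib.Exponent
import Groth.Agent.MultLiftLib.KerBot
import Groth.Agent.SweepSix.FlatCancel
import Groth.Agent.AntiAffLib.KerSub
import Groth.Agent.AntiAffLib.Descend
import Groth.Agent.MonoQuotLib.QuotGrp
import Mathlib.AlgebraicGeometry.IdealSheaf.Functorial

/-!
Torsion subgroups mapping faithfully flatly onto the torsion of a quotient.
-/

set_option autoImplicit false
set_option linter.style.haveILetI false
set_option backward.isDefEq.respectTransparency false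
set_option backward.isDefEq.respectTransparency.types false
set_option maxHeartbeats 1000000

noncomputable section

universe u

open CategoryTheory CategoryTheory.Limits MonoidalCategory CartesianMonoidalCategory AlgebraicGeometry
open scoped MonObj
open Groth.Agent

attribute [-instance] CategoryTheory.Hom.commGroup

namespace TorsQuot

variable {k : Type u} [Field k]

/-- Flatness descends along a faithfully flat source map. -/
theorem flat_cancel {X Y Z : Scheme.{u}} (f : X ⟶ Y) (g : Y ⟶ Z) [Flat f] [Surjective f] [Flat (f ≫ g)] : Flat g := by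
  rw [Flat.iff_flat_stalkMap]
  intro y
  obtain ⟨x, rfl⟩ := f.surjective y
  exact (SweepSix.flat_stalkMap_comp_iff f g x (Flat.stalkMap f x)).1 (Flat.stalkMap (f ≫ g) x)

/-- Ascending chains of ideal sheaves on a noetherian scheme are stationary. -/
theorem exists_eq_succ {X : Scheme.{u}} [IsNoetherian X] (I : ℕ → X.IdealSheafData) (hI : Monotone I) :
    ∃ j, I (j + 1) = I j := by
  let 𝒰 := X.affineCover.finiteSubcover
  let U : 𝒰.I₀ → X.affineOpens := fun a => ⟨(𝒰.f a).opensRange, isAffineOpen_opensRange _⟩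
  have hU : ⨆ a, (U a).1 = ⊤ := 𝒰.iSup_opensRange
  have hst : ∀ a, ∃ n, ∀ m, n ≤ m → (I m).ideal (U a) = (I n).ideal (U a) := fun a => by
    haveI : IsNoetherianRing Γ(X, (U a).1) := IsLocallyNoetherian.component_noetherian (U a)
    obtain ⟨n, hn⟩ := monotone_stabilizes_iff_noetherian.2 (inferInstance : IsNoetherian Γ(X, (U a).1) Γ(X, (U a).1))
      ⟨fun m => (I m).ideal (U a), fun _ _ h => hI h (U a)⟩
    exact ⟨n, fun m hm => (hn m hm).symm⟩
  choose N hN using hst
  obtain ⟨j, hj⟩ : ∃ j, ∀ a, N a ≤ j := by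
    haveI : Finite 𝒰.I₀ := inferInstance
    haveI : Fintype 𝒰.I₀ := Fintype.ofFinite _
    exact ⟨Finset.univ.sup N, fun a => Finset.le_sup (Finset.mem_univ a)⟩
  exact ⟨j, Scheme.IdealSheafData.ext_of_iSup_eq_top U hU fun a => by
    rw [hN a _ ((hj a).trans (Nat.le_succ j)), hN a _ (hj a)]⟩

/-- The stable image of the powers of a power map, as a subgroup scheme. -/
theorem exists_stable_flat (m : ℕ) (H : Over (Spec (CommRingCat.of k))) [GrpObj H] [IsCommMonObj H]
    [LocallyOfFiniteType H.hom] [QuasiCompact H.hom] :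
    ∃ (j : ℕ) (C : Over (Spec (CommRingCat.of k))) (_ : GrpObj C) (π : H ⟶ C) (i : C ⟶ H), IsMonHom π ∧
      IsMonHom i ∧ IsClosedImmersion i.left ∧ π ≫ i = 𝟙 H ^ m ^ j ∧
      Flat (𝟙 C ^ m).left ∧ Surjective (𝟙 C ^ m).left := by
  haveI : IsSeparated H.hom := GrpField.isSeparated_grp (G := H)
  haveI : Flat H.hom := GrpField.flat_field _
  have him : ∀ j : ℕ, ∃ (C : Over (Spec (CommRingCat.of k))) (_ : GrpObj C) (π : H ⟶ C) (i : C ⟶ H), IsMonHom π ∧
      IsMonHom i ∧ IsClosedImmersion i.left ∧ Flat π.left ∧ Surjective π.left ∧ π ≫ i = 𝟙 H ^ m ^ j := fun j => by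
    haveI : IsMonHom (𝟙 H ^ m ^ j) := by rw [← zpow_natCast (𝟙 H) (m ^ j)]; exact AbSchLib.isMonHom_zpow H _
    haveI : QuasiCompact (𝟙 H ^ m ^ j).left := by
      haveI : QuasiCompact ((𝟙 H ^ m ^ j).left ≫ H.hom) := by rw [Over.w]; infer_instance
      exact QuasiCompact.of_comp _ H.hom
    obtain ⟨C, _, π, i, hπ, hi, hπi, hπf, hπs, -, hic⟩ :=
      GrpHom.exists_fppf_image (𝟙 H ^ m ^ j) (GrpField.flat_field _)
    exact ⟨C, inferInstance, π, i, hπ, hi, hic, hπf, hπs, hπi⟩
  choose C hC π i hπm him hic hπf hπs hπi using him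
  haveI : IsLocallyNoetherian H.left := LocallyOfFiniteType.isLocallyNoetherian H.hom
  haveI : CompactSpace H.left := QuasiCompact.compactSpace_of_compactSpace H.hom
  haveI : IsNoetherian H.left := {}
  have hker : ∀ j, (𝟙 H ^ m ^ j).left.ker = (i j).left.ker := fun j => by
    haveI := hπf j; haveI := hπs j
    rw [← hπi j, Over.comp_left, Scheme.Hom.ker_comp, MultLift.ker_eq_bot_of_flat_surjective,
      Scheme.IdealSheafData.map_bot]
  have hsucc : ∀ j, (𝟙 H ^ m ^ (j + 1)) = (𝟙 H ^ m) ≫ (𝟙 H ^ m ^ j) := fun j => by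
    rw [MonObj.comp_pow, Category.comp_id, ← pow_mul, ← pow_succ']
  have hmono : Monotone fun j => (i j).left.ker := monotone_nat_of_le_succ fun j => by
    simp only [← hker, hsucc, Over.comp_left]
    exact Scheme.Hom.le_ker_comp _ _
  obtain ⟨j, hj⟩ := exists_eq_succ _ hmono
  refine ⟨j, C j, hC j, π j, i j, hπm j, him j, hic j, hπi j, ?_⟩
  letI := hC j; haveI := him j; haveI := hπm j; haveI := hic j; haveI := hπf j; haveI := hπs j
  letI := hC (j + 1); haveI := him (j + 1); haveI := hπm (j + 1); haveI := hic (j + 1)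
  haveI := hπf (j + 1); haveI := hπs (j + 1)
  haveI : IsIso (IsClosedImmersion.lift (i j).left (i (j + 1)).left hj.symm.le) :=
    IsClosedImmersion.isIso_lift _ _ hj.symm
  let e := IsClosedImmersion.lift (i j).left (i (j + 1)).left hj.symm.le
  have he : e ≫ (i j).left = (i (j + 1)).left := IsClosedImmersion.lift_fac _ _ _
  have heq : (π j).left ≫ (𝟙 (C j) ^ m).left = (π (j + 1)).left ≫ e := by
    rw [← cancel_mono (i j).left, Category.assoc, Category.assoc, he, ← Over.comp_left, ← Over.comp_left,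
      ← Over.comp_left, hπi (j + 1)]
    refine congrArg (fun f : H ⟶ H => f.left) ?_
    rw [MonObj.pow_comp, Category.id_comp, MonObj.comp_pow, hπi j, ← pow_mul, ← pow_succ]
  haveI : Flat ((π j).left ≫ (𝟙 (C j) ^ m).left) := by rw [heq]; infer_instance
  haveI : Surjective ((π j).left ≫ (𝟙 (C j) ^ m).left) := by rw [heq]; infer_instance
  exact ⟨flat_cancel (π j).left _, Surjective.of_comp (π j).left _⟩

theorem pow_flat_surjective {C : Over (Spec (CommRingCat.of k))} [GrpObj C] (m : ℕ) [Flat (HPow.hPow (α := C ⟶ C) (𝟙 C) m).left]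
    [Surjective (HPow.hPow (α := C ⟶ C) (𝟙 C) m).left] : ∀ a : ℕ,
      Flat (HPow.hPow (α := C ⟶ C) (𝟙 C) (m ^ a)).left ∧ Surjective (HPow.hPow (α := C ⟶ C) (𝟙 C) (m ^ a)).left
  | 0 => by
      rw [pow_zero, pow_one]
      exact ⟨inferInstanceAs (Flat (𝟙 C.left)), inferInstanceAs (Surjective (𝟙 C.left))⟩
  | a + 1 => by
      obtain ⟨h1, h2⟩ := pow_flat_surjective (C := C) m a
      haveI := h1; haveI := h2
      have e : 𝟙 C ^ m ^ (a + 1) = (𝟙 C ^ m) ≫ (𝟙 C ^ m ^ a) := by
        rw [MonObj.comp_pow, Category.comp_id, ← pow_mul, ← pow_succ']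
      rw [e, Over.comp_left]
      exact ⟨inferInstance, inferInstance⟩

/-- The torsion of a quotient is covered by torsion. -/
theorem exists_torsion_cover {G H Q : Over (Spec (CommRingCat.of k))} [GrpObj G] [IsCommMonObj G] [GrpObj H]
    [GrpObj Q] [LocallyOfFiniteType G.hom] [LocallyOfFiniteType H.hom] [QuasiCompact H.hom] (iH : H ⟶ G)
    [IsMonHom iH] [IsClosedImmersion iH.left] (q : G ⟶ Q) [IsMonHom q] (hq : RedSub.IsQuotient iH q) (n M : ℕ) :
    ∃ (G' : Over (Spec (CommRingCat.of k))) (_ : GrpObj G') (j : G' ⟶ G) (_ : IsMonHom j), IsClosedImmersion j.left ∧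
      (∃ N : ℕ, ∀ (T : Over (Spec (CommRingCat.of k))) (g : T ⟶ G'), g ^ (n ^ N) = 1) ∧
      (∀ (T : Over (Spec (CommRingCat.of k))) (g : T ⟶ G'), (g ≫ j ≫ q) ^ (n ^ M) = 1) ∧
      ∀ (K : Over (Spec (CommRingCat.of k))) [GrpObj K] (κ : K ⟶ Q) [IsMonHom κ],
        AlgGrp.IsKernel κ ((𝟙 Q) ^ (n ^ M)) → ∀ ℓ : G' ⟶ K, ℓ ≫ κ = j ≫ q → Flat ℓ.left ∧ Surjective ℓ.left := by
  obtain ⟨hqs, hqf, hql, hsq⟩ := hq
  haveI := hqs; haveI := hqf; haveI := hql
  haveI : Mono iH := Over.mono_of_mono_left iH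
  have hk : AlgGrp.IsKernel iH q := Groth.Agent.MonoQuot.isKernel_quotient hsq
  haveI : IsCommMonObj H := AntiAffLib.CommCat.isComm_of_mono iH
  haveI : LocallyOfFiniteType Q.hom := by
    haveI : LocallyOfFiniteType (q.left ≫ Q.hom) := by rw [Over.w q]; infer_instance
    exact Groth.Agent.S5938.result q.left Q.hom
  haveI : Epi q := Groth.Agent.MonoQuot.epi_over q
  haveI : IsCommMonObj Q := AntiAffLib.CommCat.isComm_of_epi q
  haveI : IsMonHom ((𝟙 Q) ^ (n ^ M)) := by rw [← zpow_natCast (𝟙 Q) (n ^ M)]; exact AbSchLib.isMonHom_zpow Q _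
  -- the preimage of the torsion
  obtain ⟨P, _, ιP, hιP, hιPc, hPk, -⟩ := AntiAffLib.exists_kernel (q ≫ ((𝟙 Q) ^ (n ^ M)))
  haveI := hιP; haveI := hιPc
  haveI : Mono ιP := Over.mono_of_mono_left ιP
  haveI : IsCommMonObj P := AntiAffLib.CommCat.isComm_of_mono ιP
  haveI : LocallyOfFiniteType P.hom := by rw [← Over.w ιP]; infer_instance
  obtain ⟨a, C, _, πC, iC, hπm, hiC, hiCc, hπi, hCf, hCs⟩ := exists_stable_flat n H
  haveI := hπm; haveI := hiC; haveI := hiCc; haveI := hCf; haveI := hCs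
  haveI : Mono iC := Over.mono_of_mono_left iC
  haveI : IsCommMonObj C := AntiAffLib.CommCat.isComm_of_mono iC
  obtain ⟨hNf, hNs⟩ := pow_flat_surjective (C := C) n (M + a)
  haveI := hNf; haveI := hNs
  have hP : (ιP ^ (n ^ M)) ≫ q = 1 := by
    rw [MonObj.pow_comp]
    have := hPk.w
    rw [MonObj.comp_pow, Category.comp_id, MonObj.comp_pow, ← Hom.one_def] at this
    exact this
  obtain ⟨g₀, hg₀⟩ := AntiAffLib.exists_lift_kernel hk (ιP ^ (n ^ M)) hP
  have hgC : (g₀ ≫ πC) ≫ iC ≫ iH = ιP ^ (n ^ (M + a)) := by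
    rw [Category.assoc, ← Category.assoc πC, hπi, ← Category.assoc, MonObj.comp_pow, Category.comp_id,
      MonObj.pow_comp, hg₀, ← pow_mul, ← pow_add]
  -- the torsion subgroup of the preimage
  haveI : IsMonHom ((𝟙 P) ^ (n ^ (M + a))) := by
    rw [← zpow_natCast (𝟙 P) (n ^ (M + a))]; exact AbSchLib.isMonHom_zpow P _
  obtain ⟨G', _, h, hh, hhc, hhk, -⟩ := AntiAffLib.exists_kernel ((𝟙 P) ^ (n ^ (M + a)))
  haveI := hh; haveI := hhc
  haveI : Mono h := Over.mono_of_mono_left h
  have hh1 : h ^ (n ^ (M + a)) = 1 := by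
    have := hhk.w
    rwa [MonObj.comp_pow, Category.comp_id, ← Hom.one_def] at this
  refine ⟨G', inferInstance, h ≫ ιP, inferInstance, by rw [Over.comp_left]; infer_instance, ⟨M + a, fun T g => ?_⟩,
    fun T g => ?_, fun K _ κ _ hκ ℓ hℓ => ?_⟩
  · rw [← cancel_mono h, MonObj.pow_comp, ← MonObj.comp_pow, hh1, MonObj.comp_one, MonObj.one_comp]
  · have h1 : (ιP ≫ q) ^ (n ^ M) = 1 := by rw [← MonObj.pow_comp]; exact hP
    rw [Category.assoc h, ← Category.assoc g h, ← MonObj.comp_pow, h1, MonObj.comp_one]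
  haveI : Mono κ := ⟨fun {Z} x y e => hκ.hom_ext e (toUnit_unique _ _)⟩
  -- the preimage maps faithfully flatly onto the kernel
  obtain ⟨ρ, hρ⟩ : ∃ ρ : P ⟶ K, ρ ≫ κ = ιP ≫ q := AntiAffLib.exists_lift_kernel hκ _ (by
    rw [MonObj.comp_pow, Category.comp_id, ← MonObj.pow_comp]; exact hP)
  have sqK : IsPullback ρ ιP κ q := by
    choose l₀ hl₀ using fun c : PullbackCone κ q => AntiAffLib.exists_lift_kernel hPk c.snd (by
      rw [← Category.assoc, ← c.condition, Category.assoc, hκ.w, ← Hom.one_def, MonObj.comp_one])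
    refine ⟨⟨hρ⟩, ⟨PullbackCone.IsLimit.mk _ l₀ (fun c => ?_) hl₀ (fun c m _ h2 => ?_)⟩⟩
    · rw [← cancel_mono κ, Category.assoc, hρ, ← Category.assoc, hl₀, c.condition]
    · rw [← cancel_mono ιP, hl₀]; exact h2
  haveI : Flat ρ.left := MorphismProperty.of_isPullback (P := @Flat) (sqK.map (Over.forget _)).flip hqf
  haveI : Surjective ρ.left := MorphismProperty.of_isPullback (P := @Surjective) (sqK.map (Over.forget _)).flip hqs
  have hℓ' : ℓ = h ≫ ρ := by rw [← cancel_mono κ, hℓ, Category.assoc, Category.assoc, hρ]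
  -- shear
  let g := g₀ ≫ πC
  let s := iC ≫ iH
  haveI : Mono s := mono_comp iC iH
  let S' := pullback g ((𝟙 C) ^ (n ^ (M + a)))
  let p₁ : S' ⟶ P := pullback.fst _ _
  let p₂ : S' ⟶ C := pullback.snd _ _
  have sqP : IsPullback p₁ p₂ g ((𝟙 C) ^ (n ^ (M + a))) := IsPullback.of_hasPullback _ _
  haveI : Flat p₁.left := MorphismProperty.of_isPullback (P := @Flat) (sqP.map (Over.forget _)).flip hNf
  haveI : Surjective p₁.left := MorphismProperty.of_isPullback (P := @Surjective) (sqP.map (Over.forget _)).flip hNs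
  obtain ⟨l, hl⟩ : ∃ l : C ⟶ P, l ≫ ιP = s := AntiAffLib.exists_lift_kernel hPk s (by
    have := hk.w
    rw [← Hom.one_def] at this
    rw [← Category.assoc, Category.assoc iC iH q, this, MonObj.comp_one, MonObj.one_comp])
  have hlρ : l ≫ ρ = 1 := by
    have := hk.w
    rw [← Hom.one_def] at this
    rw [← cancel_mono κ, Category.assoc, hρ, ← Category.assoc, hl, Category.assoc, this, MonObj.comp_one,
      MonObj.one_comp]
  haveI : Mono l := by
    haveI : Mono (l ≫ ιP) := by rw [hl]; infer_instance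
    exact mono_of_mono l ιP
  haveI : IsMonHom l := by
    haveI : IsMonHom (l ≫ ιP) := by rw [hl]; infer_instance
    exact Groth.Agent.DiagRep.isMonHom_of_comp_mono l ιP
  haveI : IsMonHom ρ := by
    haveI : IsMonHom (ρ ≫ κ) := by rw [hρ]; infer_instance
    exact Groth.Agent.DiagRep.isMonHom_of_comp_mono ρ κ
  have hgl : g ≫ l = (𝟙 P) ^ (n ^ (M + a)) := by
    rw [← cancel_mono ιP, Category.assoc, hl, hgC, MonObj.pow_comp, Category.id_comp]
  have hc : p₁ ^ (n ^ (M + a)) = (p₂ ≫ l) ^ (n ^ (M + a)) := by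
    have := congrArg (· ≫ l) sqP.w
    simpa only [Category.assoc, hgl, MonObj.comp_pow, Category.comp_id, MonObj.pow_comp, Category.id_comp] using this
  obtain ⟨v, hv⟩ := AntiAffLib.exists_lift_kernel hhk (p₁ * (p₂ ≫ l)⁻¹) (by
    letI : CommGroup (S' ⟶ P) := Hom.commGroup
    rw [MonObj.comp_pow, Category.comp_id, mul_pow, inv_pow, hc, mul_inv_cancel])
  let b : C ⊗ G' ⟶ P := (fst C G' ≫ l) * (snd C G' ≫ h)
  have hbn : b ≫ g = fst C G' ≫ ((𝟙 C) ^ (n ^ (M + a))) := by
    letI : CommGroup (C ⊗ G' ⟶ P) := Hom.commGroup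
    rw [← cancel_mono l, Category.assoc, hgl, MonObj.comp_pow, Category.comp_id, mul_pow, ← MonObj.comp_pow h (n ^ (M + a)) (snd C G'),
      hh1, MonObj.comp_one, _root_.mul_one, MonObj.comp_pow, Category.comp_id, MonObj.pow_comp]
  let u : C ⊗ G' ⟶ S' := sqP.lift b (fst C G') hbn
  haveI : IsIso u := by
    refine ⟨lift p₂ v, ?_, ?_⟩
    · refine CartesianMonoidalCategory.hom_ext _ _ ?_ ?_
      · rw [Category.assoc, lift_fst, Category.id_comp]; exact sqP.lift_snd _ _ _
      · rw [Category.assoc, lift_snd, Category.id_comp, ← cancel_mono h, Category.assoc, hv, MonObj.comp_mul,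
          GrpObj.comp_inv, ← Category.assoc u, sqP.lift_fst, sqP.lift_snd]
        letI : CommGroup (C ⊗ G' ⟶ P) := Hom.commGroup
        exact mul_inv_cancel_comm _ _
    · apply sqP.hom_ext
      · rw [Category.assoc, sqP.lift_fst, Category.id_comp, MonObj.comp_mul, ← Category.assoc, lift_fst,
          ← Category.assoc, lift_snd, hv]
        letI : CommGroup (S' ⟶ P) := Hom.commGroup
        exact mul_inv_cancel_comm_assoc _ _
      · rw [Category.assoc, sqP.lift_snd, Category.id_comp, lift_fst]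
  haveI : IsIso u.left := inferInstanceAs (IsIso ((Over.forget _).map u))
  have hub : u ≫ p₁ = b := sqP.lift_fst _ _ _
  haveI : Flat b.left := by rw [← hub, Over.comp_left]; infer_instance
  haveI : Surjective b.left := by rw [← hub, Over.comp_left]; infer_instance
  have hbρ : b ≫ ρ = snd C G' ≫ ℓ := by
    rw [MonObj.mul_comp, Category.assoc, hlρ, MonObj.comp_one, _root_.one_mul, Category.assoc, hℓ']
  haveI hsf : Flat (snd C G').left := by
    haveI : Flat C.hom := GrpField.flat_field _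
    exact inferInstanceAs (Flat (Limits.pullback.snd C.hom G'.hom))
  haveI hss : Surjective (snd C G').left := by
    haveI : Surjective C.hom := ⟨fun y => ⟨(η[C] : 𝟙_ (Over (Spec (CommRingCat.of k))) ⟶ C).left y,
      Subsingleton.elim (α := PrimeSpectrum k) _ _⟩⟩
    exact inferInstanceAs (Surjective (Limits.pullback.snd C.hom G'.hom))
  haveI : Flat ((snd C G').left ≫ ℓ.left) := by rw [← Over.comp_left, ← hbρ, Over.comp_left]; infer_instance
  haveI : Surjective ((snd C G').left ≫ ℓ.left) := by rw [← Over.comp_left, ← hbρ, Over.comp_left]; infer_instance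
  exact ⟨flat_cancel (snd C G').left ℓ.left, Surjective.of_comp (snd C G').left ℓ.left⟩

end TorsQuot

end
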